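import Groth.Agent.Lib.DerCat.Ghost
import Mathlib.RingTheory.Filtration
import Mathlib.Data.Int.Interval
import Mathlib.RingTheory.Flat.Basic
import Mathlib.Algebra.Category.ModuleCat.Monoidal.Basic
import Mathlib.Algebra.Homology.ShortComplex.ModuleCat
import Mathlib.LinearAlgebra.TensorProduct.RightExactness

/-! # Powers of an ideal killing cohomology act by zero in the derived category -/

set_option autoImplicit false
universe w u

open CategoryTheory MonoidalCategory Limits TensorProduct

namespace GrothLib.KillHom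

variable {A : Type u} [CommRing A]

theorem homologyπ_eq_zero_iff (S : ShortComplex (ModuleCat.{u} A)) (z : S.cycles) :
    S.homologyπ z = 0 ↔ ∃ x, S.f x = S.iCycles z := by
  have hex : (ShortComplex.mk _ _ S.toCycles_comp_homologyπ).Exact :=
    ShortComplex.exact_of_g_is_cokernel _ S.homologyIsCokernel
  have key : ∀ x, S.iCycles (S.toCycles x) = S.f x := fun x => congr($(S.toCycles_i) x)
  constructor
  · intro h
    obtain ⟨x, hx⟩ := (ShortComplex.moduleCat_exact_iff _).1 hex z h
    exact ⟨x, ((key x).symm.trans (congrArg _ hx))⟩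
  · rintro ⟨x, hx⟩
    rw [← key] at hx
    rw [← (ModuleCat.mono_iff_injective S.iCycles).1 inferInstance hx]
    exact congr($(S.toCycles_comp_homologyπ) x)

theorem homologyMap_eq_zero {K L : CochainComplex (ModuleCat.{u} A) ℤ} (f : K ⟶ L) (q : ℤ)
    (h : ∀ x : K.X q, K.d q (q + 1) x = 0 → ∃ w : L.X (q - 1), L.d (q - 1) q w = f.f q x) :
    HomologicalComplex.homologyMap f q = 0 := by
  rw [← cancel_epi (K.homologyπ q), HomologicalComplex.homologyπ_naturality, comp_zero]
  ext z
  show (L.sc q).homologyπ (HomologicalComplex.cyclesMap f q z) = 0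
  refine (homologyπ_eq_zero_iff _ _).2 ?_
  obtain ⟨w, hw⟩ := h (K.iCycles q z) (congr($(K.iCycles_d q (q + 1)) z))
  have hi : L.iCycles q (HomologicalComplex.cyclesMap f q z) = f.f q (K.iCycles q z) :=
    congr($(HomologicalComplex.cyclesMap_i f q) z)
  have hp : (ComplexShape.up ℤ).prev q = q - 1 := by simp
  clear h
  revert w
  show ∀ w : L.X (q - 1), L.d (q - 1) q w = f.f q (K.iCycles q z) →
    ∃ x : L.X ((ComplexShape.up ℤ).prev q), L.d ((ComplexShape.up ℤ).prev q) q x =
      L.iCycles q (HomologicalComplex.cyclesMap f q z)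
  rw [hp, hi]
  exact fun w hw => ⟨w, hw⟩

/-- Tensoring a complex on the left. -/
@[simps]
noncomputable def tensorFunctor (K : CochainComplex (ModuleCat.{u} A) ℤ) :
    ModuleCat.{u} A ⥤ CochainComplex (ModuleCat.{u} A) ℤ where
  obj M := (((curriedTensor (ModuleCat.{u} A)).obj M).mapHomologicalComplex (ComplexShape.up ℤ)).obj K
  map f := (NatTrans.mapHomologicalComplex ((curriedTensor (ModuleCat.{u} A)).map f) (ComplexShape.up ℤ)).app K

variable (J : Ideal A)

/-- The multiplication `J^N ⊗ M → M`. -/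
noncomputable def mu (N : ℕ) (M : Type u) [AddCommGroup M] [Module A M] : (J ^ N : Ideal A) ⊗[A] M →ₗ[A] M :=
  (TensorProduct.lid A M).toLinearMap ∘ₗ LinearMap.rTensor M (Submodule.subtype (J ^ N))

theorem mu_tmul (N : ℕ) {M : Type u} [AddCommGroup M] [Module A M] (r : (J ^ N : Ideal A)) (x : M) :
    mu J N M (r ⊗ₜ x) = (r : A) • x := by simp [mu]

theorem mu_injective (N : ℕ) (M : Type u) [AddCommGroup M] [Module A M] [Module.Flat A M] :
    Function.Injective (mu J N M) :=
  (TensorProduct.lid A M).injective.comp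
    (Module.Flat.rTensor_preserves_injective_linearMap _ (Submodule.injective_subtype _))

theorem range_mu (N : ℕ) (M : Type u) [AddCommGroup M] [Module A M] :
    LinearMap.range (mu J N M) = J ^ N • (⊤ : Submodule A M) := by
  refine le_antisymm ?_ (Submodule.smul_le.2 fun r hr x _ => ⟨⟨r, hr⟩ ⊗ₜ x, mu_tmul J N _ _⟩)
  rintro _ ⟨t, rfl⟩
  induction t using TensorProduct.induction_on with
  | zero => simp
  | tmul r x => rw [mu_tmul]; exact Submodule.smul_mem_smul r.2 trivial
  | add s t hs ht => rw [map_add]; exact add_mem hs ht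

theorem mu_natural (N : ℕ) {M M' : Type u} [AddCommGroup M] [Module A M] [AddCommGroup M'] [Module A M']
    (g : M →ₗ[A] M') (t : (J ^ N : Ideal A) ⊗[A] M) :
    mu J N M' (LinearMap.lTensor _ g t) = g (mu J N M t) := by
  induction t using TensorProduct.induction_on with
  | zero => simp
  | tmul r x => simp [mu_tmul]
  | add s t hs ht => simp [hs, ht]

theorem mu_incl {N N' : ℕ} (h : J ^ N ≤ J ^ N') {M : Type u} [AddCommGroup M] [Module A M]
    (t : (J ^ N : Ideal A) ⊗[A] M) :
    mu J N' M (LinearMap.rTensor M (Submodule.inclusion h) t) = mu J N M t := by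
  induction t using TensorProduct.induction_on with
  | zero => simp
  | tmul r x => simp [mu_tmul]
  | add s t hs ht => simp [hs, ht]

variable [IsNoetherianRing A] (K : CochainComplex (ModuleCat.{u} A) ℤ)

/-- Cycles of `J^{j+c} K` are boundaries in `J^j K`. -/
theorem exists_shift (hfin : ∀ q, Module.Finite A (K.X q)) (hflat : ∀ q, Module.Flat A (K.X q))
    (hJ : ∀ q : ℤ, ∀ x ∈ J, ∀ c : ↑(K.homology q), x • c = 0) (q : ℤ) :
    ∃ c : ℕ, ∀ (N j : ℕ) (hle : J ^ N ≤ J ^ j), c + j ≤ N →
      HomologicalComplex.homologyMap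
        ((tensorFunctor K).map (ModuleCat.ofHom (Submodule.inclusion hle))) q = 0 := by
  have := hfin q
  let Z := LinearMap.ker (K.d q (q + 1)).hom
  obtain ⟨k, hk⟩ := Ideal.exists_pow_inf_eq_pow_smul J Z
  refine ⟨k + 1, fun N j hle hN => homologyMap_eq_zero _ q fun x hx => ?_⟩
  have hB : J • Z ≤ LinearMap.range (K.d (q - 1) q).hom := by
    refine Submodule.smul_le.2 fun r hr z hz => ?_
    obtain ⟨z', hz'⟩ : ∃ z' : K.cycles q, K.iCycles q z' = z := by
      obtain ⟨e, he⟩ := (ShortComplex.moduleCat_exact_iff _).1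
        (ShortComplex.exact_of_f_is_kernel (ShortComplex.mk _ _ (K.iCycles_d q (q + 1)))
          (K.cyclesIsKernel q (q + 1) (by simp))) z hz
      exact ⟨e, he⟩
    have h0 : (K.sc q).homologyπ (r • z' : K.cycles q) = 0 :=
      (map_smul (K.homologyπ q).hom r z').trans (hJ q r hr _)
    obtain ⟨w, hw⟩ := (homologyπ_eq_zero_iff _ _).1 h0
    have hp : (ComplexShape.up ℤ).prev q = q - 1 := by simp
    revert w
    show ∀ w : K.X ((ComplexShape.up ℤ).prev q), K.d ((ComplexShape.up ℤ).prev q) q w = K.iCycles q (r • z') →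
      r • z ∈ LinearMap.range (K.d (q - 1) q).hom
    rw [hp, map_smul, hz']
    exact fun w hw => ⟨w, hw⟩
  change (J ^ N : Ideal A) ⊗[A] K.X q at x
  have hy : mu J N (K.X q) x ∈ J ^ N • ⊤ ⊓ Z := by
    refine ⟨(range_mu J N _).le ⟨x, rfl⟩, ?_⟩
    show (K.d q (q + 1)).hom (mu J N _ x) = 0
    rw [← mu_natural]
    exact (congrArg (mu J N (K.X (q + 1))) hx).trans (map_zero _)
  have hy' : mu J N (K.X q) x ∈ Submodule.map (K.d (q - 1) q).hom (J ^ j • ⊤) := by
    rw [hk N (by omega)] at hy
    suffices h : J ^ (N - k) • (J ^ k • ⊤ ⊓ Z) ≤ Submodule.map (K.d (q - 1) q).hom (J ^ j • ⊤) from h hy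
    refine (Submodule.smul_mono ((Ideal.pow_le_pow_right (show j + 1 ≤ N - k by omega)))
      (inf_le_right : _ ⊓ Z ≤ Z)).trans ?_
    rw [pow_succ, Submodule.mul_smul, Submodule.map_smul'', Submodule.map_top]
    exact Submodule.smul_mono le_rfl hB
  obtain ⟨v, hv, hdv⟩ := hy'
  obtain ⟨w, rfl⟩ := (range_mu J j _).ge hv
  refine ⟨w, (have := hflat q; mu_injective J j (K.X q)) ?_⟩
  show mu J j _ (LinearMap.lTensor _ (K.d (q - 1) q).hom w) =
    mu J j _ (LinearMap.rTensor _ (Submodule.inclusion hle) x)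
  rw [mu_natural, hdv, mu_incl]

variable [HasDerivedCategory.{w} (ModuleCat.{u} A)]

theorem exists_pow_map_eq_zero (a b : ℤ) (hK : ∀ q : ℤ, q < a ∨ b < q → IsZero (K.X q))
    (hfin : ∀ q, Module.Finite A (K.X q)) (hflat : ∀ q, Module.Flat A (K.X q))
    (hJ : ∀ q : ℤ, ∀ x ∈ J, ∀ c : ↑(K.homology q), x • c = 0) :
    ∃ n : ℕ, ∀ m : ℕ, DerivedCategory.Q.map ((tensorFunctor K).map
      (ModuleCat.ofHom (Submodule.inclusion (p := J ^ (n + m)) (p' := J ^ m)
        (Ideal.pow_le_pow_right (Nat.le_add_left m n))))) = 0 := by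
  classical
  choose c hc using exists_shift J K hfin hflat hJ
  let C := (Finset.Icc a b).sup c
  let l := (b + 1 - a).toNat
  refine ⟨C * l, fun m => ?_⟩
  let e : ℕ → ℕ := fun i => C * (l - i) + m
  have he : ∀ {i i' : ℕ}, i ≤ i' → J ^ e i ≤ J ^ e i' := fun h =>
    Ideal.pow_le_pow_right (Nat.add_le_add_right (Nat.mul_le_mul_left C (Nat.sub_le_sub_left h l)) m)
  let G : ℕ ⥤ ModuleCat.{u} A :=
    { obj := fun i => ModuleCat.of A (J ^ e i : Ideal A)
      map := fun f => ModuleCat.ofHom (Submodule.inclusion (he (leOfHom f)))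
      map_id := fun _ => rfl
      map_comp := fun _ _ => rfl }
  have hv : ∀ (M : ModuleCat.{u} A) (q : ℤ), q < a ∨ b < q → IsZero (((tensorFunctor K).obj M).X q) :=
    fun M q hq => ((curriedTensor (ModuleCat.{u} A)).obj M).map_isZero (hK q hq)
  have hH : ∀ (M : ModuleCat.{u} A) (q : ℤ), q < a ∨ b < q →
      IsZero ((DerivedCategory.homologyFunctor _ q).obj (DerivedCategory.Q.obj ((tensorFunctor K).obj M))) :=
    fun M q hq => (ShortComplex.isZero_homology_of_isZero_X₂ _ (hv M q hq)).of_iso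
      ((DerivedCategory.homologyFunctorFactors _ q).app _)
  have h0 := GrothLib.DerTrunc.comp_eq_zero_of_ghost l a (G ⋙ tensorFunctor K ⋙ DerivedCategory.Q)
    (fun i _ => (DerivedCategory.isGE_iff _ a).2 fun q hq => hH (G.obj i) q (Or.inl hq))
    (fun i _ => (DerivedCategory.isLE_iff _ _).2 fun q hq => hH (G.obj i) q (Or.inr (by omega)))
    (fun i hi q => ?_)
  · have hl : e l = m := by simp [e]
    have h0' : ∀ (N N' : ℕ) (_ : N = e 0) (_ : N' = e l) (h : J ^ N ≤ J ^ N'),
        DerivedCategory.Q.map ((tensorFunctor K).map (ModuleCat.ofHom (Submodule.inclusion h))) = 0 := by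
      rintro _ _ rfl rfl h
      exact h0
    exact h0' _ _ (by simp [e]) hl.symm _
  · by_cases hq : q < a ∨ b < q
    · exact (hH (G.obj i) q hq).eq_of_src _ _
    · have hC : c q ≤ C := Finset.le_sup (Finset.mem_Icc.2 (by omega))
      have := hc q (e i) (e (i + 1)) (he (Nat.le_succ i)) (by
        simp only [e]
        rw [show l - i = (l - (i + 1)) + 1 by omega, Nat.mul_succ]
        omega)
      refine (cancel_mono ((DerivedCategory.homologyFunctorFactors (ModuleCat.{u} A) q).hom.app _)).1 ?_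
      refine ((DerivedCategory.homologyFunctorFactors (ModuleCat.{u} A) q).hom.naturality _).trans ?_
      refine (congrArg (_ ≫ ·) this).trans (comp_zero.trans zero_comp.symm)

end GrothLib.KillHom
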